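import Cfsg.Agent.H628.Exc.Elem
import Cfsg.Agent.H378.AdjE6
import Cfsg.Agent.H367.E6Out.Red2

/-!
# Elements of order `r ∣ q₀⁴ + 1` in `⟨X_{±i} : i ≠ 0⟩ ≤ E₆(q₀)` (helper351, for S3480)

* `exists_k` : over the algebraic closure, `z t z⁻¹` fixed by the Frobenius map, `z ∈ ⟨X_{±i} : i ≠ 0⟩`, `t` in the torus;
* `exists_r8` : the element of `E₆(q)`, `q = q₀³`, fixed by the field automorphism and by the diagonal automorphisms at
  the node `0`;
* `exists_pr` : elements of order `p r`, `r` of order 5.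
-/

set_option autoImplicit false
set_option linter.unusedSectionVars false

namespace Cfsg.Agent.H351.E6Out.D5

open CoxeterSystem Cfsg Cfsg.Lie Cfsg.Lie.ChevalleyDatum
open Cfsg.Agent.ChevalleyStructure Cfsg.Agent.ChevalleyStructure.Elts Cfsg.Agent.ChevalleyStructure.CoxeterGeom
  Cfsg.Agent.ChevalleyStructure.CoxeterGeomTypes Cfsg.Agent.ChevalleyStructure.NPerm
open Cfsg.Agent.Tits.Roots Cfsg.Agent.Tits.Core Cfsg.Agent.Nodes.Reps Cfsg.Agent.Nodes.BNOf
  Cfsg.Agent.Nodes.RGDChev Cfsg.Agent.Nodes.Bruhat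
open Cfsg.Agent.KFacts.RgdField Cfsg.Agent.KFacts.RgdChevCoord Cfsg.Agent.BpExc.TorCent Cfsg.Agent.BpExc.TorChev
open Cfsg.Agent.BpExc.Tow Cfsg.Agent.BpExc.TowChev Cfsg.Agent.BpExc.FamExt Cfsg.Agent.BpExc.FamUntw
  Cfsg.Agent.BpExc.FamInst Cfsg.Agent.BpExc.LangFr Cfsg.Agent.BpExc.FamField Cfsg.Agent.BpExc.Fr
open Cfsg.Agent.GpExc.Field (glMap emb coe_emb glMap_xG emb_injective coe_glMap)
open Cfsg.Agent.H129.TorusChar (cX cX_vec cX_one cX_inj IsMC exists_cX)
open Cfsg.Agent.H628.Exc.Func (SJ exists_fixed lin lin_apply lin_sr ev ev_apply EigOK)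
open Cfsg.Agent.H628.Exc.Elem (exists_tor pow_val_ne_one)
open Cfsg.Agent.H367.E6Out
open Cfsg.Agent.CpAut.RgdUntw (fld fld_coe)
open Cfsg.Agent.H70.AutFix Cfsg.Agent.H70.ChevTab Cfsg.Agent.H70.ChevFix Cfsg.Agent.H70.OutE
  Cfsg.Agent.H523.Chev Cfsg.Agent.LangThm

universe u

/-! ### the tables -/

/-- the Coxeter element of `D₅` -/
def L : List (Fin 6) := [1, 2, 3, 4, 5]

/-- the eigenfunctional -/
def V : Fin 6 → Fin (3 + 1) → ℤ := ![![1, 2, 1, 0], ![-1, -1, 1, 1], ![-1, -1, 1, 1], ![0, 0, -2, 0], ![0, 0, 0, -2],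
  ![2, 0, 0, 0]]

/-- `x ^ 4 + 1` -/
def Phi : Fin (3 + 1) → ℤ := ![1, 0, 0, 0]

theorem eig : EigOK H378.AdjE6.Am L id V Phi := by decide +kernel

theorem L_mem : ∀ i ∈ L, i ∈ ({i | i ≠ 0} : Set (Fin 6)) := by
  intro i hi
  have : ∀ i ∈ L, i ≠ 0 := by decide
  exact this i hi

/-! ### the closure -/

section Clo

variable {k : Type u} [Field k] [IsAlgClosed k] (hk : LocFin k) (p : ℕ) [Fact p.Prime] [CharP k p]

include hk in
theorem exists_k {m : ℕ} (hm : 0 < m) {r : ℕ} (hr : r.Prime) (hr2 : r ≠ 2) (hd : r ∣ (p ^ m) ^ 4 + 1) :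
    ∃ z ∈ RGD.Sup (XX chevE6 6 k) (SJ {i | i ≠ 0}), ∃ t ∈ TT chevE6 k, t ^ r = 1 ∧ t ≠ 1 ∧
      phi chevE6 k p m (z * t * z⁻¹) = z * t * z⁻¹ := by
  have hfr : Fact r.Prime := ⟨hr⟩
  have hp := BpExc.RowsUntw.e6T
  let cs := (CoxeterMatrix.E₆).toCoxeterSystem
  have hpr : (r : k) ≠ 0 := by
    intro h0
    have h1 : p ∣ r := (CharP.cast_eq_zero_iff k p r).1 h0
    have h2 : p = r := (Nat.prime_dvd_prime_iff_eq Fact.out hr).1 h1
    have h3 : r ∣ (p ^ m) ^ 4 := by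
      rw [← h2]
      exact (dvd_pow_self p hm.ne').trans (dvd_pow_self _ (by norm_num))
    exact hr.one_lt.ne' (Nat.dvd_one.1 ((Nat.dvd_add_right h3).1 hd))
  -- a root of unity
  have : NeZero (r : k) := ⟨hpr⟩
  obtain ⟨ζ, hζ⟩ := HasEnoughRootsOfUnity.exists_primitiveRoot k r
  have hζr : ζ ^ r = 1 := hζ.pow_eq_one
  have hζ1 : ζ ≠ 1 := hζ.ne_one hr.one_lt
  obtain ⟨z, hz, hzσ⟩ := exists_fixed hp cs hk hm (phi_isFrob p m) (phi_fr hp cs p hk m)
    (J := {i | i ≠ 0}) (π := id) (L := L) (fun _ => rfl) (fun _ h => h) L_mem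
  have hx : ((p ^ m : ℕ) : ZMod r) ^ (3 + 1) + ev ((p ^ m : ℕ) : ZMod r) Phi = 0 := by
    have h1 := (ZMod.natCast_eq_zero_iff ((p ^ m) ^ 4 + 1) r).2 hd
    rw [ev_apply]
    simp only [Phi, Fin.sum_univ_succ, Fin.sum_univ_zero]
    simp
    push_cast at h1
    exact h1
  obtain ⟨t, ht, htr, hχ, hθ⟩ := exists_tor (r := p) (e := m) hp cs BpExc.FamInst.inv_E6 three_ne_zero hζr
    (g := AddEquiv.refl _) H378.AdjE6.hA (π := id) (fun _ => rfl) eig hx
  refine ⟨z, hz, t, ht, htr, ?_, hzσ t ht hθ⟩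
  rintro rfl
  have h3 := hχ (sr 5)
  rw [cX_one, lin_sr] at h3
  refine pow_val_ne_one hζr hζ1 ?_ h3.symm
  rw [ev_apply]
  simp only [V, Fin.sum_univ_succ, Fin.sum_univ_zero]
  simp
  intro h2
  have h4 : ((2 : ℕ) : ZMod r) = 0 := by exact_mod_cast h2
  rw [ZMod.natCast_eq_zero_iff] at h4
  exact hr2 ((Nat.prime_dvd_prime_iff_eq hr Nat.prime_two).1 h4)

end Clo

/-! ### the diagonal automorphisms -/

section Diag

variable {F : Type u} [Field F] {k : Type u} [Field k] (f : F →+* k)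

theorem xc_eq_xe {j : ℕ} (hj : j < chevE6.nroots) (s : F) :
    xc BpExc.RowsUntw.e6T (vec chevE6 6 j) s = xe inList_E6 j s :=
  Subtype.ext (coe_xc BpExc.RowsUntw.e6T hj s)

theorem emb_xe {j : ℕ} (hj : j < chevE6.nroots) (s : F) :
    emb inList_E6 f (xe inList_E6 j s) = xe inList_E6 j (f s) := by
  rw [← xc_eq_xe hj, ← xc_eq_xe hj]
  exact emb_xc BpExc.RowsUntw.e6T f hj s

theorem conj_xe {h : ↥(chevE6.group k)} (hh : h ∈ TT chevE6 k) {j : ℕ} (hj : j < chevE6.nroots) (s : k) :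
    h * xe inList_E6 j s * h⁻¹ = xe inList_E6 j (cX BpExc.RowsUntw.e6T h (vec chevE6 6 j) * s) := by
  rw [← xc_eq_xe hj, ← xc_eq_xe hj, cX_vec BpExc.RowsUntw.e6T hh hj]
  exact (act BpExc.RowsUntw.e6T hj hh).2 s

/-- a torus element over the closure inducing the diagonal automorphism -/
theorem exists_h [IsAlgClosed k] (c : Fin chevE6.rank → Fˣ) : ∃ h ∈ TT chevE6 k,
    (∀ i : Fin chevE6.rank, cX BpExc.RowsUntw.e6T h (sr i) = f (c i)) ∧
    ∀ eta : MulAut ↥(chevE6.group F), VP eta c 1 1 → ∀ y : ↥(chevE6.group F),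
      emb inList_E6 f (eta y) = h * emb inList_E6 f y * h⁻¹ := by
  have hp := BpExc.RowsUntw.e6T
  obtain ⟨c', hc'⟩ : ∃ c' : Fin 6 → Fˣ, c' = c := ⟨c, rfl⟩
  have hMC : IsMC (fun x : Fin 6 → ℤ => ∏ i, (f (c' i)) ^ x i) :=
    IsMC.of_prod (fun i => f (c' i)) fun i => by
      rw [Ne, map_eq_zero]
      exact (c' i).ne_zero
  obtain ⟨h, hh, hχ⟩ := exists_cX hp BpExc.FamInst.inv_E6 three_ne_zero hMC
    fun i => IsAlgClosed.exists_pow_nat_eq _ (by norm_num)
  have hs : ∀ i : Fin 6, cX hp h (sr i) = f (c' i) := by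
    intro i
    rw [hχ]
    rw [Finset.prod_eq_single i]
    · rw [sr_self, zpow_one]
    · intro j _ hj
      rw [sr_ne hj, zpow_zero]
    · intro h
      exact absurd (Finset.mem_univ _) h
  have hs : ∀ i : Fin chevE6.rank, cX hp h (sr i) = f (c i) := by
    rw [← hc']
    exact hs
  refine ⟨h, hh, hs, fun eta hη y => ?_⟩
  have h1 : (emb inList_E6 f).comp eta.toMonoidHom = (MulAut.conj h).toMonoidHom.comp (emb inList_E6 f) := by
    refine H79.SimpleGen.hom_ext inList_E6 _ _ (fun i hi t => ?_) (fun i hi t => ?_)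
    · have hlt := Cfsg.Agent.H79.SimpleGen.simple_lt inList_E6 hi
      have h2 := hη.1 ⟨i, hi⟩ t
      show emb inList_E6 f (eta (xe inList_E6 (chevE6.simple i) t)) = h * emb inList_E6 f (xe inList_E6 (chevE6.simple i) t) * h⁻¹
      rw [emb_xe f hlt, conj_xe hh hlt]
      have h3 : vec chevE6 6 (chevE6.simple i) = sr (⟨i, hi⟩ : Fin 6) := vec_simple hp ⟨i, hi⟩
      rw [h3]
      have h4 : cX hp h (sr (⟨i, hi⟩ : Fin 6)) = f (c ⟨i, hi⟩) := hs ⟨i, hi⟩
      rw [h4, ← map_mul, ← emb_xe f hlt]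
      exact congrArg _ h2
    · have hlt := Cfsg.Agent.H79.SimpleGen.simple_lt inList_E6 hi
      have hlt' := Cfsg.Agent.H79.SimpleGen.neg_simple_lt inList_E6 hi
      have h2 := hη.2 ⟨i, hi⟩ t
      show emb inList_E6 f (eta (xe inList_E6 (chevE6.neg (chevE6.simple i)) t)) = h * emb inList_E6 f (xe inList_E6 (chevE6.neg (chevE6.simple i)) t) * h⁻¹
      rw [emb_xe f hlt', conj_xe hh hlt']
      have h3 : vec chevE6 6 (chevE6.neg (chevE6.simple i)) = -sr (⟨i, hi⟩ : Fin 6) := by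
        rw [vec_neg hp hlt]
        exact congrArg _ (vec_simple hp ⟨i, hi⟩)
      rw [h3, (H129.TorusChar.isMC_cX hp hh).neg]
      have h4 : cX hp h (sr (⟨i, hi⟩ : Fin 6)) = f (c ⟨i, hi⟩) := hs ⟨i, hi⟩
      rw [h4, ← map_inv₀, ← map_mul, ← emb_xe f hlt']
      exact congrArg _ h2
  exact DFunLike.congr_fun h1 y

/-- torus elements trivial on the roots of `J` commute with `⟨X_{±j} : j ∈ J⟩` -/
theorem comm_Sup {h : ↥(chevE6.group k)} (hh : h ∈ TT chevE6 k) {J : Set (Fin 6)}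
    (hJ : ∀ i ∈ J, cX BpExc.RowsUntw.e6T h (sr i) = 1) {z : ↥(chevE6.group k)}
    (hz : z ∈ RGD.Sup (XX chevE6 6 k) (SJ J)) : h * z * h⁻¹ = z := by
  have hp := BpExc.RowsUntw.e6T
  have h1 : RGD.Sup (XX chevE6 6 k) (SJ J) ≤ (MulAut.conj h).toMonoidHom.eqLocus (MonoidHom.id _) := by
    refine RGD.Sup_le fun v hv => ?_
    obtain ⟨j, hj, rfl | rfl⟩ := hv
    · intro u hu
      have hlt := simple_lt hp.inList (lt_rank hp j)
      rw [← vec_simple hp j] at hu
      obtain ⟨b, hb⟩ := (mem_XX_vec hp hlt).1 hu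
      have h2 : u = xe inList_E6 (chevE6.simple j) b := Subtype.ext hb
      show h * u * h⁻¹ = u
      rw [h2, conj_xe hh hlt, vec_simple hp j, hJ j hj, one_mul]
    · intro u hu
      have hlt := simple_lt hp.inList (lt_rank hp j)
      have hlt' := neg_lt hp.inList hlt
      have e : -sr j = vec chevE6 6 (chevE6.neg (chevE6.simple j)) := by rw [vec_neg hp hlt, vec_simple hp j]
      rw [e] at hu
      obtain ⟨b, hb⟩ := (mem_XX_vec hp hlt').1 hu
      have h2 : u = xe inList_E6 (chevE6.neg (chevE6.simple j)) b := Subtype.ext hb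
      show h * u * h⁻¹ = u
      rw [h2, conj_xe hh hlt', ← e, (H129.TorusChar.isMC_cX hp hh).neg, hJ j hj, inv_one, one_mul]
  exact h1 hz

end Diag

/-! ### the finite group -/

/-- the power maps of a field automorphism of order 3 -/
theorem apply_of_pow {F : Type u} [Field F] [Finite F] {p n m : ℕ} [Fact p.Prime] [CharP F p]
    (hn : Nat.card F = p ^ n) (hnm : n = m * 3) {tau : F ≃+* F} (htau : orderOf tau = 3) {a : F}
    (ha : a ^ p ^ m = a) : tau a = a := by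
  obtain ⟨j, hj⟩ := exists_pow_eq p tau
  have h1 : ∀ b : F, b ^ p ^ (j * 3) = b := fun b => by
    rw [← pow_apply_of hj 3 b, ← htau, pow_orderOf_eq_one]
    rfl
  have h2 : n ∣ j * 3 := (forall_pow_iff p hn _).1 h1
  rw [hnm] at h2
  obtain ⟨i, rfl⟩ : m ∣ j := Nat.dvd_of_mul_dvd_mul_right (by norm_num) h2
  rw [hj]
  clear h1 h2 hj
  induction i with
  | zero => rw [mul_zero, pow_zero, pow_one]
  | succ i ih => rw [mul_add, mul_one, pow_add, pow_mul, ih, ha]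

theorem exists_r8 {F : Type u} [Field F] [Fintype F] {tau : F ≃+* F} (htau : orderOf tau = 3) {q0 r : ℕ}
    (hq0 : Fintype.card F = q0 ^ 3) (hr : r.Prime) (hr2 : r ≠ 2) (hd : r ∣ q0 ^ 4 + 1) :
    ∃ x : ↥(chevE6.group F), orderOf x = r ∧ fld chevE6 tau x = x ∧
      ∀ (eta : MulAut ↥(chevE6.group F)) (c : Fin chevE6.rank → Fˣ), VP eta c 1 1 → (∀ i, i.val ≠ 0 → c i = 1) →
        eta x = x := by
  have hp := BpExc.RowsUntw.e6T
  obtain ⟨k, _, _, f, p, _, hcp, n, hk, -, hn0, hn⟩ := H378.TorFin.exists_closure F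
  have hpp : p.Prime := Fact.out
  have hcF : CharP F p := (f.charP_iff f.injective p).2 hcp
  -- the exponent of `q0`
  have hc0 : q0 ^ 3 = p ^ n := by rw [← hq0, ← Nat.card_eq_fintype_card, hn]
  obtain ⟨m, -, rfl⟩ := (Nat.dvd_prime_pow hpp).1 (show q0 ∣ p ^ n by rw [← hc0]; exact dvd_pow_self _ (by norm_num))
  have hnm : n = m * 3 := by
    rw [← pow_mul] at hc0
    exact (Nat.pow_right_injective hpp.two_le hc0).symm
  have hm : 0 < m := by omega
  obtain ⟨z, hz, t, ht, htr, ht1, hfix⟩ := exists_k hk p hm hr hr2 hd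
  -- in the finite group
  have hfixn : phi chevE6 k p n (z * t * z⁻¹) = z * t * z⁻¹ := by
    rw [hnm, ← phi_pow]
    have h1 : ∀ j : ℕ, (phi chevE6 k p m ^ j) (z * t * z⁻¹) = z * t * z⁻¹ := by
      intro j
      induction j with
      | zero => rfl
      | succ j ih => rw [pow_succ, MulAut.mul_apply, hfix, ih]
    exact h1 3
  have hr3 : r.Coprime (Nat.gcd 3 (Nat.card F - 1)) := by
    refine Nat.Coprime.coprime_dvd_right (Nat.gcd_dvd_left _ _) ?_
    rw [Nat.coprime_primes hr Nat.prime_three]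
    rintro rfl
    have h1 : ∀ a : ZMod 3, a ^ 4 + 1 ≠ 0 := by decide
    apply h1 ((p ^ m : ℕ) : ZMod 3)
    have h2 := (ZMod.natCast_eq_zero_iff ((p ^ m) ^ 4 + 1) 3).2 hd
    push_cast at h2 ⊢
    exact h2
  have hcpw : (z * t * z⁻¹) ^ r = 1 := by rw [conj_pow, htr, mul_one, mul_inv_cancel]
  obtain ⟨x, hx⟩ := H378.RootTor.mem_of_pow hp f p hn BpExc.FamInst.inv_E6 three_ne_zero hfixn hcpw hr3
  have hx : emb inList_E6 f x = z * t * z⁻¹ := hx
  have hinj := emb_injective inList_E6 f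
  refine ⟨x, ?_, ?_, ?_⟩
  · have hfr : Fact r.Prime := ⟨hr⟩
    refine orderOf_eq_prime (hinj ?_) fun h1 => ?_
    · rw [map_pow, hx, hcpw, map_one]
    · rw [h1, map_one] at hx
      apply ht1
      have h2 := mul_inv_eq_one.1 hx.symm
      exact mul_eq_left.1 h2
  · apply Subtype.ext
    apply Units.ext
    rw [fld_coe]
    ext i j
    rw [Matrix.map_apply]
    refine apply_of_pow hn hnm htau (f.injective ?_)
    have h1 := congrArg (fun y : ↥(chevE6.group k) => ((y : GL chevE6.Idx k) : Matrix chevE6.Idx chevE6.Idx k) i j) hfix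
    simp only [phi_coe, Matrix.map_apply] at h1
    rw [← hx] at h1
    rw [coe_emb, coe_glMap, Matrix.map_apply] at h1
    rw [map_pow]
    exact h1
  · intro eta c hη hc
    obtain ⟨h, hh, hs, hconj⟩ := exists_h f c
    apply hinj
    rw [hconj eta hη x, hx]
    have h1 : h * z * h⁻¹ = z := comm_Sup hh (J := {i | i ≠ 0}) (fun i hi => by
      have h2 : cX BpExc.RowsUntw.e6T h (sr i) = f (c i) := hs i
      have h3 : c i = 1 := hc i (fun h0 => hi (Fin.ext h0))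
      rw [h2, h3, Units.val_one, map_one]) hz
    have h2 : h * t * h⁻¹ = t := by
      rw [TT_comm hp h hh t ht, mul_inv_cancel_right]
    calc h * (z * t * z⁻¹) * h⁻¹ = (h * z * h⁻¹) * (h * t * h⁻¹) * (h * z * h⁻¹)⁻¹ := by group
      _ = z * t * z⁻¹ := by rw [h1, h2]

/-- elements of order `p r`, `r` a prime with `q` of order 5 modulo `r` -/
theorem exists_pr {F : Type u} [Field F] [Finite F] {p : ℕ} [Fact p.Prime] [CharP F p] {r : ℕ} (hr : r.Prime)
    (h : orderOf ((Nat.card F : ℕ) : ZMod r) = 5) : ∃ x : ↥(chevE6.group F), orderOf x = p * r := by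
  have hp := BpExc.RowsUntw.e6T
  let cs := (CoxeterMatrix.E₆).toCoxeterSystem
  have : Finite (CoxeterMatrix.E₆).Group := finite_W hp cs
  have hr1 : ¬ r ∣ Nat.card F - 1 := by
    intro hd
    have h1 : 1 ≤ Nat.card F := Nat.card_pos
    have h2 : ((Nat.card F : ℕ) : ZMod r) = 1 := by
      have h3 := (ZMod.natCast_eq_zero_iff (Nat.card F - 1) r).2 hd
      rw [Nat.cast_sub h1, Nat.cast_one] at h3
      exact sub_eq_zero.1 h3
    rw [h2, orderOf_one] at h
    norm_num at h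
  obtain ⟨x, u, -, hx, hu, -, hc, -⟩ := H378.AdjTab.exists_comm_row hp cs BpExc.FamInst.inv_E6 three_ne_zero
    H378.AdjE6.hA H378.AdjE6.lt_nroots H378.AdjE6.row5 (F := F) hr hr1 (H378.CycTab.dvd5 hr h) (p := p)
  have hpr : p ≠ r := by
    rintro rfl
    have h1 : ((Nat.card F : ℕ) : ZMod p) = 0 := by
      rw [ZMod.natCast_eq_zero_iff]
      obtain ⟨n, hn0, hn⟩ := exists_card (F := F) p
      rw [hn]
      exact dvd_pow_self _ hn0.ne'
    rw [h1] at h
    have h2 := pow_orderOf_eq_one (0 : ZMod p)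
    rw [h] at h2
    have h3 : (0 : ZMod p) = 1 := by rw [← h2]; norm_num
    exact zero_ne_one h3
  refine ⟨u * x, ?_⟩
  rw [hc.symm.orderOf_mul_eq_mul_orderOf_of_coprime (by
    rw [hu, hx]
    exact (Nat.coprime_primes Fact.out hr).2 hpr), hu, hx]

end Cfsg.Agent.H351.E6Out.D5
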